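import Groth.Agent.EtZarUlift.Flasque
import Groth.Agent.CohTop.Flasque
import Groth.Agent.SiteCoh.DimShift
import Groth.Prelude.Def_Coh
import Mathlib.Algebra.Category.Grp.Ulift
import Mathlib.Algebra.Category.Grp.Adjunctions

/-!
# Zariski cohomology does not depend on the universe of the coefficients
-/

set_option autoImplicit false
set_option backward.isDefEq.respectTransparency false

universe u w w' v₀ u₀

open CategoryTheory CategoryTheory.Limits AlgebraicGeometry Opposite TopologicalSpace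

noncomputable section

namespace Groth.Agent.EtZarUlift

section Generic

variable {C : Type u₀} [Category.{v₀} C] {J : GrothendieckTopology C} [HasSheafify J AddCommGrpCat.{w}]
  [HasExt.{w'} (Sheaf J AddCommGrpCat.{w})]
  {S : ShortComplex (Sheaf J AddCommGrpCat.{w})} (hS : S.ShortExact) {T : C} (hT : IsTerminal T)

/-- The connecting map from sections. -/
def delta : S.X₃.obj.obj (op T) →+ Sheaf.H S.X₁ 1 :=
  AddMonoidHom.mk' (fun x => ((Sheaf.H.equiv₀ S.X₃ hT).symm x).comp hS.extClass (rfl : 0 + 1 = 1))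
    fun x y => by rw [map_add, Abelian.Ext.add_comp]

theorem delta_surjective [Subsingleton (Sheaf.H S.X₂ 1)] : Function.Surjective (delta hS hT) := fun z => by
  obtain ⟨y, hy⟩ := Abelian.Ext.covariant_sequence_exact₁ _ hS z (Subsingleton.elim _ _) (rfl : 0 + 1 = 1)
  exact ⟨Sheaf.H.equiv₀ S.X₃ hT y,
    (congrArg (fun t : Sheaf.H S.X₃ 0 => t.comp hS.extClass (rfl : 0 + 1 = 1))
      ((Sheaf.H.equiv₀ S.X₃ hT).symm_apply_apply y)).trans hy⟩

theorem delta_ker : (delta hS hT).ker = (S.g.hom.app (op T)).hom.range := by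
  ext x
  constructor
  · intro hx
    obtain ⟨y, hy⟩ := Abelian.Ext.covariant_sequence_exact₃ _ hS ((Sheaf.H.equiv₀ S.X₃ hT).symm x)
      (rfl : 0 + 1 = 1) hx
    refine ⟨Sheaf.H.equiv₀ S.X₂ hT y, ?_⟩
    refine (Sheaf.H.equiv₀_naturality hT S.g y).trans ?_
    exact (congrArg (Sheaf.H.equiv₀ S.X₃ hT) hy).trans ((Sheaf.H.equiv₀ S.X₃ hT).apply_symm_apply x)
  · rintro ⟨y, rfl⟩
    show ((Sheaf.H.equiv₀ S.X₃ hT).symm _).comp hS.extClass (rfl : 0 + 1 = 1) = 0
    have : (Sheaf.H.equiv₀ S.X₃ hT).symm ((S.g.hom.app (op T)).hom y) =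
        ((Sheaf.H.equiv₀ S.X₂ hT).symm y).comp (Abelian.Ext.mk₀ S.g) (add_zero 0) :=
      (Sheaf.H.equiv₀_symm_naturality hT S.g y).symm
    rw [this, Abelian.Ext.comp_assoc_of_second_deg_zero, ShortComplex.ShortExact.comp_extClass,
      Abelian.Ext.comp_zero]

include hS in
theorem nonempty_succ_equiv (q : ℕ) (h : ∀ n, Subsingleton (Sheaf.H S.X₂ (n + 1))) :
    Nonempty (Sheaf.H S.X₃ (q + 1) ≃+ Sheaf.H S.X₁ (q + 1 + 1)) := by
  let d : Sheaf.H S.X₃ (q + 1) →+ Sheaf.H S.X₁ (q + 1 + 1) :=
    AddMonoidHom.mk' (fun x => x.comp hS.extClass rfl) fun x y => by rw [Abelian.Ext.add_comp]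
  refine ⟨AddEquiv.ofBijective d ⟨(injective_iff_map_eq_zero d).2 fun x hx => ?_, fun z => ?_⟩⟩
  · obtain ⟨y, hy⟩ := Abelian.Ext.covariant_sequence_exact₃ _ hS x rfl hx
    rw [← hy, (h q).elim y 0, Abelian.Ext.zero_comp]
  · exact Abelian.Ext.covariant_sequence_exact₁ _ hS z ((h (q + 1)).elim _ _) rfl

end Generic

variable {X : Scheme.{u}}

/-- The topology. -/
abbrev J (X : Scheme.{u}) := Opens.grothendieckTopology X

/-- Groups one universe up. -/
abbrev lift (X : Scheme.{u}) : Sheaf (J X) AddCommGrpCat.{u} ⥤ EtZar.Ab X :=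
  sheafCompose (J X) AddCommGrpCat.uliftFunctor.{u + 1, u}

theorem shortExact_lift {S : ShortComplex (Sheaf (J X) AddCommGrpCat.{u})} (hS : S.ShortExact) :
    (S.map (lift X)).ShortExact := by
  haveI := Flasque.wEqualsLocallyBijective (X := X)
  haveI := hS.mono_f
  haveI := hS.epi_g
  have hinj : ∀ V, Function.Injective (S.f.hom.app V) := fun V => by
    have : Mono ((sheafToPresheaf (J X) AddCommGrpCat.{u} ⋙ (evaluation _ _).obj V).map S.f) := inferInstance
    exact (AddCommGrpCat.mono_iff_injective _).1 this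
  haveI hm : Mono (S.map (lift X)).f := by
    haveI : Presheaf.IsLocallyInjective (J X) ((lift X).map S.f).hom :=
      Presheaf.isLocallyInjective_of_injective _ _ fun V a b h => ULift.ext _ _ (hinj V (congrArg ULift.down h))
    exact Sheaf.mono_of_isLocallyInjective ((lift X).map S.f)
  haveI he : Epi (S.map (lift X)).g := by
    haveI : Sheaf.IsLocallySurjective ((lift X).map S.g) := ⟨fun {V} s => by
      have hl : Sheaf.IsLocallySurjective S.g :=
        (Sheaf.isLocallySurjective_iff_epi' AddCommGrpCat.{u} S.g).2 inferInstance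
      refine (J X).superset_covering ?_ (Presheaf.imageSieve_mem (J X) S.g.hom (U := op V)
        (show ULift.{u + 1} (S.X₃.obj.obj (op V)) from s).down)
      rintro W f ⟨t, ht⟩
      exact ⟨(⟨t⟩ : ULift.{u + 1} (S.X₂.obj.obj (op W))), ULift.ext _ _ ht⟩⟩
    exact Sheaf.epi_of_isLocallySurjective ((lift X).map S.g)
  refine { exact := ?_ }
  -- exactness: on sections the sequence is left exact
  let F := kernel (S.map (lift X)).g
  rw [ShortComplex.exact_iff_epi_kernel_lift]
  show Epi (kernel.lift _ ((lift X).map S.f) _)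
  let ι := kernel.ι ((lift X).map S.g)
  have hι : ∀ V, Function.Injective (ι.hom.app V) := fun V => by
    have : Mono ((sheafToPresheaf (J X) AddCommGrpCat.{u + 1} ⋙ (evaluation _ _).obj V).map ι) := inferInstance
    exact (AddCommGrpCat.mono_iff_injective _).1 this
  suffices Sheaf.IsLocallySurjective (kernel.lift _ ((lift X).map S.f) (S.map (lift X)).zero) from inferInstance
  refine ⟨fun {V} k => ?_⟩
  refine (J X).superset_covering (fun W f _ => ?_) ((J X).top_mem V)
  have hk : ((lift X).map S.g).hom.app (op V) (ι.hom.app (op V) k) = (⟨0⟩ : ULift.{u + 1} (S.X₃.obj.obj (op V))) :=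
    congrArg (fun q : kernel ((lift X).map S.g) ⟶ (lift X).obj S.X₃ => q.hom.app (op V) k) (kernel.condition _)
  obtain ⟨t, ht⟩ := (ShortComplex.ab_exact_iff _).1
    (hS.exact.map_of_mono_of_preservesKernel
      (sheafToPresheaf (J X) AddCommGrpCat.{u} ⋙ (evaluation _ AddCommGrpCat.{u}).obj (op V))
      hS.mono_f inferInstance)
    (show ULift.{u + 1} (S.X₂.obj.obj (op V)) from ι.hom.app (op V) k).down (congrArg ULift.down hk)
  refine ⟨((lift X).obj S.X₁).obj.map f.op (⟨t⟩ : ULift.{u + 1} (S.X₁.obj.obj (op V))), ?_⟩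
  refine (NatTrans.naturality_apply (kernel.lift _ ((lift X).map S.f) (S.map (lift X)).zero).hom f.op _).trans ?_
  refine congrArg _ (hι _ ?_)
  refine (ConcreteCategory.congr_hom (congrArg (fun q : (lift X).obj S.X₁ ⟶ (lift X).obj S.X₂ =>
    q.hom.app (op V)) (kernel.lift_ι _ ((lift X).map S.f) (S.map (lift X)).zero)) _).trans ?_
  exact ULift.ext _ _ ht

/-- Injective sheaves are flasque. -/
theorem flasque_of_injective (I : EtZar.Ab X) [Injective I] : Flasque.Flasque I := by
  intro U V i s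
  haveI : Injective I.obj :=
    (sheafificationAdjunction (J X) AddCommGrpCat.{u + 1}).map_injective I inferInstance
  let P : X.Opens → (X.Opens)ᵒᵖ ⥤ AddCommGrpCat.{u + 1} := fun A =>
    uliftYoneda.{u + 1}.obj A ⋙ AddCommGrpCat.free
  let cl : P V.unop ⟶ I.obj :=
    { app := fun W => AddCommGrpCat.ofHom (FreeAbelianGroup.lift fun g => (I.obj.map g.down.op).hom s)
      naturality := fun W W' f => AddCommGrpCat.hom_ext (FreeAbelianGroup.lift_ext _ _ fun g => by
        show FreeAbelianGroup.lift _ (FreeAbelianGroup.map _ (FreeAbelianGroup.of g)) =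
          (I.obj.map f).hom (FreeAbelianGroup.lift _ (FreeAbelianGroup.of g))
        rw [FreeAbelianGroup.map_of_apply, FreeAbelianGroup.lift_apply_of, FreeAbelianGroup.lift_apply_of]
        show (I.obj.map (f.unop ≫ g.down).op).hom s = _
        rw [op_comp, Functor.map_comp]
        rfl) }
  let j : P V.unop ⟶ P U.unop :=
    Functor.whiskerRight (uliftYoneda.{u + 1}.map i.unop) AddCommGrpCat.free
  haveI : Mono j := by
    haveI : ∀ W, Mono (j.app W) := fun W => by
      haveI : Mono ((uliftYoneda.{u + 1}.map i.unop).app W) :=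
        (CategoryTheory.mono_iff_injective _).2 fun a b _ => ULift.ext _ _ (Subsingleton.elim (α := _ ⟶ _) _ _)
      exact AddCommGrpCat.free.map_mono _
    exact NatTrans.mono_of_mono_app _
  let b := Injective.factorThru cl j
  refine ⟨(b.app U).hom (FreeAbelianGroup.of (ULift.up (𝟙 U.unop))), ?_⟩
  have h1 := ConcreteCategory.congr_hom (NatTrans.congr_app (Injective.comp_factorThru cl j) V)
    (FreeAbelianGroup.of (ULift.up (𝟙 V.unop)))
  refine ((NatTrans.naturality_apply b i _).symm.trans ?_).trans (h1.trans ?_)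
  · refine congrArg (b.app V).hom ?_
    show FreeAbelianGroup.map _ (FreeAbelianGroup.of _) = FreeAbelianGroup.map _ (FreeAbelianGroup.of _)
    rw [FreeAbelianGroup.map_of_apply, FreeAbelianGroup.map_of_apply]
    exact congrArg FreeAbelianGroup.of (ULift.ext _ _ (Subsingleton.elim (α := _ ⟶ _) _ _))
  · show FreeAbelianGroup.lift _ (FreeAbelianGroup.of _) = s
    rw [FreeAbelianGroup.lift_apply_of]
    simp

/-- Flasque sheaves are acyclic. -/
theorem subsingleton_H_flasque (q : ℕ) :
    ∀ F : EtZar.Ab X, Flasque.Flasque F → Subsingleton (Sheaf.H F (q + 1)) := by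
  have hT : IsTerminal (⊤ : X.Opens) := isTerminalTop
  induction q with
  | zero =>
    intro F hF
    let S := SiteCoh.DimShift.inj F
    have hS : S.ShortExact := SiteCoh.DimShift.inj_shortExact F
    haveI : Subsingleton (Sheaf.H S.X₂ 1) :=
      subsingleton_of_forall_eq 0 fun x => Abelian.Ext.eq_zero_of_injective x
    refine subsingleton_of_forall_eq 0 fun z => ?_
    obtain ⟨x, rfl⟩ := delta_surjective hS hT z
    obtain ⟨y, rfl⟩ := (AddCommGrpCat.epi_iff_surjective _).1 (Flasque.epi_of_shortExact hS hF) x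
    have : S.g.hom.app (op ⊤) y ∈ (delta hS hT).ker := by rw [delta_ker]; exact ⟨y, rfl⟩
    exact this
  | succ q ih =>
    intro F hF
    let S := SiteCoh.DimShift.inj F
    have hS : S.ShortExact := SiteCoh.DimShift.inj_shortExact F
    obtain ⟨e⟩ := nonempty_succ_equiv hS q fun n =>
      subsingleton_of_forall_eq 0 fun x => Abelian.Ext.eq_zero_of_injective x
    haveI := ih S.X₃ fun {U V} i s => by
      obtain ⟨t, rfl⟩ := (AddCommGrpCat.epi_iff_surjective _).1
        (Flasque.epi_of_shortExact hS hF (U := V.unop)) s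
      obtain ⟨t', rfl⟩ := flasque_of_injective S.X₂ i t
      exact ⟨S.g.hom.app U t', (NatTrans.naturality_apply S.g.hom i t').symm⟩
    exact e.symm.injective.subsingleton

/-- Cohomology of the lift. -/
theorem nonempty_H_lift_equiv (p : ℕ) :
    ∀ F : Sheaf (J X) AddCommGrpCat.{u}, Nonempty (Sheaf.H ((lift X).obj F) p ≃+ Sheaf.H F p) := by
  have hT : IsTerminal (⊤ : X.Opens) := isTerminalTop
  induction p with
  | zero =>
    intro F
    exact ⟨(Sheaf.H.equiv₀ ((lift X).obj F) hT).trans (AddEquiv.ulift.trans (Sheaf.H.equiv₀ F hT).symm)⟩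
  | succ p ih =>
    intro F
    let S := SiteCoh.DimShift.inj F
    have hS : S.ShortExact := SiteCoh.DimShift.inj_shortExact F
    have hL : ∀ n, Subsingleton (Sheaf.H ((lift X).obj S.X₂) (n + 1)) := fun n => by
      refine subsingleton_H_flasque n _ fun {U V} i s => ?_
      haveI : TopCat.Sheaf.IsFlasque (X := X.toTopCat) S.X₂ :=
        CohTop.Flasque.isFlasque_of_injective (X := X.toTopCat) S.X₂
      obtain ⟨t, ht⟩ := (AddCommGrpCat.epi_iff_surjective (S.X₂.obj.map i)).1 inferInstance
        (show ULift.{u + 1} (S.X₂.obj.obj V) from s).down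
      exact ⟨(⟨t⟩ : ULift.{u + 1} (S.X₂.obj.obj U)), ULift.ext _ _ ht⟩
    have hI : ∀ n, Subsingleton (Sheaf.H S.X₂ (n + 1)) := fun n =>
      subsingleton_of_forall_eq 0 fun x => Abelian.Ext.eq_zero_of_injective x
    cases p with
    | zero =>
      haveI := hI 0
      haveI : Subsingleton (Sheaf.H (S.map (lift X)).X₂ 1) := hL 0
      let e₁ := QuotientAddGroup.quotientKerEquivOfSurjective _
        (delta_surjective (shortExact_lift hS) hT)
      let e₂ := QuotientAddGroup.quotientKerEquivOfSurjective _ (delta_surjective hS hT)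
      refine ⟨e₁.symm.trans ((QuotientAddGroup.congr _ _ AddEquiv.ulift ?_).trans e₂)⟩
      rw [delta_ker, delta_ker]
      ext x
      constructor
      · rintro ⟨_, ⟨y, rfl⟩, rfl⟩
        exact ⟨(show ULift.{u + 1} (S.X₂.obj.obj (op ⊤)) from y).down, rfl⟩
      · rintro ⟨y, rfl⟩
        exact ⟨_, ⟨(⟨y⟩ : ULift.{u + 1} (S.X₂.obj.obj (op ⊤))), rfl⟩, rfl⟩
    | succ q =>
      obtain ⟨a⟩ := nonempty_succ_equiv (shortExact_lift hS) q hL
      obtain ⟨b⟩ := nonempty_succ_equiv hS q hI
      obtain ⟨c⟩ := ih S.X₃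
      exact ⟨a.symm.trans (c.trans b)⟩

end Groth.Agent.EtZarUlift
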