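import Groth.Agent.EtZarUlift.Main

/-!
# The independence of the universe, naturally in the sheaf
-/

set_option autoImplicit false
set_option backward.isDefEq.respectTransparency false

universe u w w' v₀ u₀

open CategoryTheory CategoryTheory.Limits AlgebraicGeometry Opposite TopologicalSpace

noncomputable section

namespace Groth.Agent.EtZarUlift

section Generic

variable {C : Type u₀} [Category.{v₀} C] {J : GrothendieckTopology C} [HasSheafify J AddCommGrpCat.{w}]
  [HasExt.{w'} (Sheaf J AddCommGrpCat.{w})]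
  {S S' : ShortComplex (Sheaf J AddCommGrpCat.{w})} (hS : S.ShortExact) (hS' : S'.ShortExact)

/-- Connecting maps are natural. -/
theorem comp_extClass_natural (φ : S ⟶ S') {n m : ℕ} (h : n + 1 = m) (x : Sheaf.H S.X₃ n) :
    (Sheaf.H.map φ.τ₃ n x).comp hS'.extClass h = Sheaf.H.map φ.τ₁ m (x.comp hS.extClass h) := by
  subst h
  rw [Sheaf.H.map_apply, Sheaf.H.map_apply, Abelian.Ext.comp_assoc_of_second_deg_zero,
    Abelian.Ext.comp_assoc_of_third_deg_zero]
  exact congrArg (fun z => x.comp z rfl) (hS.extClass_naturality hS' φ).symm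

theorem delta_natural {T : C} (hT : IsTerminal T) (φ : S ⟶ S') (y : S.X₃.obj.obj (op T)) :
    delta hS' hT ((φ.τ₃.hom.app (op T)).hom y) = Sheaf.H.map φ.τ₁ 1 (delta hS hT y) := by
  refine Eq.trans ?_ (comp_extClass_natural hS hS' φ (rfl : 0 + 1 = 1) _)
  exact congrArg (fun z : Sheaf.H S'.X₃ 0 => z.comp hS'.extClass (rfl : 0 + 1 = 1))
    (Sheaf.H.equiv₀_symm_naturality hT φ.τ₃ y).symm

end Generic

variable {X : Scheme.{u}}

/-- The chosen presentations are functorial. -/
theorem exists_injHom {F G : Sheaf (J X) AddCommGrpCat.{u}} (f : F ⟶ G) :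
    ∃ φ : SiteCoh.DimShift.inj F ⟶ SiteCoh.DimShift.inj G, φ.τ₁ = f := by
  haveI := (SiteCoh.DimShift.inj_shortExact F).mono_f
  let S := SiteCoh.DimShift.inj F
  let S' := SiteCoh.DimShift.inj G
  have h2 : S.f ≫ Injective.factorThru (f ≫ S'.f) S.f = f ≫ S'.f := Injective.comp_factorThru _ _
  exact ⟨{ τ₁ := f
           τ₂ := Injective.factorThru (f ≫ S'.f) S.f
           τ₃ := cokernel.map S.f S'.f f (Injective.factorThru (f ≫ S'.f) S.f) h2
           comm₁₂ := h2.symm
           comm₂₃ := (cokernel.π_desc _ _ _).symm }, rfl⟩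

theorem subsingleton_H_lift_inj (F : Sheaf (J X) AddCommGrpCat.{u}) (n : ℕ) :
    Subsingleton (Sheaf.H ((lift X).obj (SiteCoh.DimShift.inj F).X₂) (n + 1)) := by
  refine subsingleton_H_flasque n _ fun {U V} i s => ?_
  haveI : TopCat.Sheaf.IsFlasque (X := X.toTopCat) (SiteCoh.DimShift.inj F).X₂ :=
    CohTop.Flasque.isFlasque_of_injective (X := X.toTopCat) (SiteCoh.DimShift.inj F).X₂
  obtain ⟨t, ht⟩ := (AddCommGrpCat.epi_iff_surjective ((SiteCoh.DimShift.inj F).X₂.obj.map i)).1 inferInstance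
    (show ULift.{u + 1} ((SiteCoh.DimShift.inj F).X₂.obj.obj V) from s).down
  exact ⟨(⟨t⟩ : ULift.{u + 1} ((SiteCoh.DimShift.inj F).X₂.obj.obj U)), ULift.ext _ _ ht⟩

/-- Cohomology of the lift, naturally in the sheaf. -/
theorem exists_natural_equiv (p : ℕ) :
    ∃ e : ∀ F : Sheaf (J X) AddCommGrpCat.{u}, Sheaf.H F p ≃+ Sheaf.H ((lift X).obj F) p,
      ∀ {F G : Sheaf (J X) AddCommGrpCat.{u}} (f : F ⟶ G) (x : Sheaf.H F p),
        e G (Sheaf.H.map f p x) = Sheaf.H.map ((lift X).map f) p (e F x) := by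
  have hT : IsTerminal (⊤ : X.Opens) := isTerminalTop
  induction p with
  | zero =>
    refine ⟨fun F => (Sheaf.H.equiv₀ F hT).trans
      (AddEquiv.ulift.symm.trans (Sheaf.H.equiv₀ ((lift X).obj F) hT).symm), fun {F G} f x => ?_⟩
    refine Eq.trans ?_ (Sheaf.H.equiv₀_symm_naturality hT ((lift X).map f) _).symm
    refine congrArg (Sheaf.H.equiv₀ ((lift X).obj G) hT).symm ?_
    exact ULift.ext _ _ (Sheaf.H.equiv₀_naturality hT f x).symm
  | succ p ih =>
    obtain ⟨e, he⟩ := ih
    have hL := subsingleton_H_lift_inj (X := X)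
    have hI : ∀ (F : Sheaf (J X) AddCommGrpCat.{u}) n,
        Subsingleton (Sheaf.H (SiteCoh.DimShift.inj F).X₂ (n + 1)) := fun F n =>
      subsingleton_of_forall_eq 0 fun x => Abelian.Ext.eq_zero_of_injective x
    have hS := SiteCoh.DimShift.inj_shortExact (A := Sheaf (J X) AddCommGrpCat.{u})
    cases p with
    | zero =>
      have hsurj : ∀ F, Function.Surjective (delta (hS F) hT) := fun F =>
        haveI := hI F 0
        delta_surjective (hS F) hT
      have hsurjL : ∀ F, Function.Surjective (delta (shortExact_lift (hS F)) hT) := fun F => by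
        haveI : Subsingleton (Sheaf.H ((SiteCoh.DimShift.inj F).map (lift X)).X₂ 1) := hL F 0
        exact delta_surjective (shortExact_lift (hS F)) hT
      let up : ∀ F : Sheaf (J X) AddCommGrpCat.{u}, (SiteCoh.DimShift.inj F).X₃.obj.obj (op ⊤) →+
          Sheaf.H ((lift X).obj F) 1 := fun F =>
        (delta (shortExact_lift (hS F)) hT).comp AddEquiv.ulift.symm.toAddMonoidHom
      have hker : ∀ F y, delta (hS F) hT y = 0 ↔ up F y = 0 := fun F y => by
        rw [← AddMonoidHom.mem_ker, delta_ker]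
        show _ ↔ delta (shortExact_lift (hS F)) hT (⟨y⟩ : ULift.{u + 1} _) = 0
        rw [← AddMonoidHom.mem_ker, delta_ker]
        constructor
        · rintro ⟨z, hz⟩
          exact ⟨(⟨z⟩ : ULift.{u + 1} _), ULift.ext _ _ hz⟩
        · rintro ⟨z, hz⟩
          exact ⟨(show ULift.{u + 1} _ from z).down, congrArg ULift.down hz⟩
      let m : ∀ F : Sheaf (J X) AddCommGrpCat.{u}, Sheaf.H F 1 →+ Sheaf.H ((lift X).obj F) 1 := fun F =>
        (delta (hS F) hT).liftOfSurjective (hsurj F) ⟨up F, fun y hy => (hker F y).1 hy⟩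
      have hm : ∀ F y, m F (delta (hS F) hT y) = up F y := fun F y =>
        AddMonoidHom.liftOfRightInverse_comp_apply _ _ _ _ y
      have hb : ∀ F, Function.Bijective (m F) := fun F => ⟨(injective_iff_map_eq_zero _).2 fun x hx => by
          obtain ⟨y, rfl⟩ := hsurj F x
          rw [hm] at hx
          exact (hker F y).2 hx,
        fun z => by
          obtain ⟨y, rfl⟩ := hsurjL F z
          exact ⟨delta (hS F) hT (show ULift.{u + 1} _ from y).down, hm F _⟩⟩
      refine ⟨fun F => AddEquiv.ofBijective (m F) (hb F), fun {F G} f x => ?_⟩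
      obtain ⟨y, rfl⟩ := hsurj F x
      obtain ⟨φ, rfl⟩ := exists_injHom f
      show m G _ = Sheaf.H.map ((lift X).map φ.τ₁) 1 (m F _)
      rw [← delta_natural (hS F) (hS G) hT φ y, hm, hm]
      exact delta_natural (shortExact_lift (hS F)) (shortExact_lift (hS G)) hT ((lift X).mapShortComplex.map φ) _
    | succ q =>
      have hb : ∀ F, Function.Bijective (fun x : Sheaf.H (SiteCoh.DimShift.inj F).X₃ (q + 1) =>
          x.comp (hS F).extClass (rfl : q + 1 + 1 = q + 1 + 1)) := fun F => by
        obtain ⟨_⟩ := nonempty_succ_equiv (hS F) q (hI F)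
        refine ⟨fun x y hxy => ?_, fun z => Abelian.Ext.covariant_sequence_exact₁ _ (hS F) z
          ((hI F (q + 1)).elim _ _) rfl⟩
        rw [← sub_eq_zero]
        obtain ⟨w, hw⟩ := Abelian.Ext.covariant_sequence_exact₃ _ (hS F) (x - y) (rfl : q + 1 + 1 = q + 1 + 1)
          (by rw [sub_eq_add_neg, Abelian.Ext.add_comp, Abelian.Ext.neg_comp, ← sub_eq_add_neg, sub_eq_zero]; exact hxy)
        rw [← hw, (hI F q).elim w 0, Abelian.Ext.zero_comp]
      have hbL : ∀ F, Function.Bijective (fun x : Sheaf.H ((lift X).obj (SiteCoh.DimShift.inj F).X₃) (q + 1) =>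
          x.comp (shortExact_lift (hS F)).extClass (rfl : q + 1 + 1 = q + 1 + 1)) := fun F => by
        refine ⟨fun x y hxy => ?_, fun z => Abelian.Ext.covariant_sequence_exact₁ _ (shortExact_lift (hS F)) z
          ((hL F (q + 1)).elim _ _) rfl⟩
        rw [← sub_eq_zero]
        obtain ⟨w, hw⟩ := Abelian.Ext.covariant_sequence_exact₃ _ (shortExact_lift (hS F)) (x - y)
          (rfl : q + 1 + 1 = q + 1 + 1)
          (by rw [sub_eq_add_neg, Abelian.Ext.add_comp, Abelian.Ext.neg_comp, ← sub_eq_add_neg, sub_eq_zero]; exact hxy)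
        have hw0 : w = 0 := (hL F q).elim w 0
        subst hw0
        rw [← hw, Abelian.Ext.zero_comp]
      let a := fun F : Sheaf (J X) AddCommGrpCat.{u} => AddEquiv.ofBijective
        (AddMonoidHom.mk' _ fun x y => Abelian.Ext.add_comp x y (hS F).extClass rfl) (hb F)
      let b := fun F : Sheaf (J X) AddCommGrpCat.{u} => AddEquiv.ofBijective
        (AddMonoidHom.mk' _ fun x y => Abelian.Ext.add_comp x y (shortExact_lift (hS F)).extClass rfl) (hbL F)
      refine ⟨fun F => (a F).symm.trans ((e (SiteCoh.DimShift.inj F).X₃).trans (b F)), fun {F G} f x => ?_⟩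
      obtain ⟨y, rfl⟩ := (a F).surjective x
      obtain ⟨φ, rfl⟩ := exists_injHom f
      have h1 : Sheaf.H.map φ.τ₁ _ (a F y) = a G (Sheaf.H.map φ.τ₃ _ y) :=
        (comp_extClass_natural (hS F) (hS G) φ rfl y).symm
      simp only [AddEquiv.trans_apply]
      rw [h1, AddEquiv.symm_apply_apply, AddEquiv.symm_apply_apply, he]
      exact comp_extClass_natural (shortExact_lift (hS F)) (shortExact_lift (hS G))
        ((lift X).mapShortComplex.map φ) rfl _

end Groth.Agent.EtZarUlift
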