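import Groth.Prelude.Def_EtZar
import Mathlib.Topology.Sheaves.Flasque

/-!
# Flasque sheaves with values one universe up

Mathlib's `TopCat.Sheaf.IsFlasque.epi_of_shortExact` (whose proof is repeated here) ties the universe
of the groups to that of the space; this is the variant for the Zariski sheaves `EtZar.Ab X`.
-/

set_option autoImplicit false

universe u

open TopCat TopologicalSpace Opposite CategoryTheory TopCat.Presheaf Limits AlgebraicGeometry
open scoped AlgebraicGeometry

noncomputable section

namespace Groth.Agent.EtZarUlift.Flasque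

variable {X : Scheme.{u}}

theorem wEqualsLocallyBijective :
    (Opens.grothendieckTopology X).WEqualsLocallyBijective AddCommGrpCat.{u + 1} :=
  @GrothendieckTopology.WEqualsLocallyBijective.ofEssentiallySmall _ _ (Opens.grothendieckTopology X)
    AddCommGrpCat.{u + 1} _ _ _ _ _ (EtZar.essSmallOpens X) _ inferInstance

/-- All restriction maps are surjective. -/
def Flasque (F : EtZar.Ab X) : Prop :=
  ∀ {U V : (X.Opens)ᵒᵖ} (i : U ⟶ V), Function.Surjective (F.obj.map i)

variable {U : Opens X} {F G : EtZar.Ab X} (g : F ⟶ G) (s : G.obj.obj (op U))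

/-- Given a morphism of sheaves `g: F ⟶ G` and a section `s` of `G(U)`, `Under g s` is comprised of
an open `V` and a section of `F(V)` that maps to `s |_ V` via `g`. -/
abbrev Under := StructuredArrow ⟨op U, s⟩ (Functor.whiskerRight g.hom
  (CategoryTheory.forget AddCommGrpCat.{u + 1})).mapElements

set_option backward.isDefEq.respectTransparency.types false in
/- The next lemma proves that the relation `fun x y ↦ Nonempty (y ⟶ x)` on `Under g s`
satisfies the requirements for applying Zorn's lemma -/
lemma structured_arrows_elements_sheaf_chains_bounded (c : Set (Under g s))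
    (h : IsChain (fun x y ↦ Nonempty (y ⟶ x)) c) : ∃ ub, ∀ a ∈ c, Nonempty (ub ⟶ a) := by
  let f : c → (Opens X) := fun x => x.1.right.1.unop
  obtain ⟨t, ht, _⟩ : ∃! s_1, IsGluing F.obj f (fun x => x.val.right.2) s_1 := by
    refine Sheaf.existsUnique_gluing F _ _ (fun i j ↦ ?_)
    obtain (rfl | h₁ | h₁) : i = j ∨ Nonempty (i.val ⟶ j.val) ∨ Nonempty (j.val ⟶ i.val) := by
      grind [Subtype.ext_iff, h i.property j.property]
    · rfl
    all_goals
      rw [← CategoryOfElements.map_snd h₁.some.2]
      dsimp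
      rw [← Functor.map_comp_apply]
      rfl
  have le₁ : iSup f ≤ U := iSup_le <| fun j => leOfHom j.1.hom.1.unop
  have le₂ : ∀ i, i ∈ c → unop i.right.1 ≤ iSup f := fun i hi ↦ le_iSup f ⟨i, hi⟩
  use StructuredArrow.mk (CategoryOfElements.homMk _ _ (homOfLE le₁).op (TopCat.Sheaf.eq_app_of_locally_eq ht
      (fun i ↦ leOfHom i.1.hom.1.unop) (fun i ↦ (CategoryOfElements.map_snd i.1.hom).symm)).symm :
      ⟨op U, s⟩ ⟶ (Functor.whiskerRight g.hom
      (CategoryTheory.forget AddCommGrpCat.{u + 1})).mapElements.obj ⟨op (iSup f), t⟩)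
  exact fun i hi => Nonempty.intro (StructuredArrow.homMk (CategoryOfElements.homMk _ _
    (homOfLE (le₂ i hi)).op (ht ⟨i, hi⟩)) (by cat_disch))

set_option backward.isDefEq.respectTransparency false in
/-- Given a short exact sequence of sheaves, `0 ⟶ 𝓕 ⟶ 𝓖 ⟶ 𝓗 ⟶ 0`, if `𝓕` is flasque then
`𝓖(U) ⟶ 𝓗(U)` is surjective, for any open `U`. -/
theorem epi_of_shortExact {S : ShortComplex (EtZar.Ab X)} (hS : S.ShortExact)
    (hF : Flasque S.X₁) : Epi (S.g.1.app (op U)) := by
  refine (AddCommGrpCat.epi_iff_surjective _).mpr (fun s ↦ ?_)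
  -- We want to find a preimage of `s` by `S.g`.
  -- We apply Zorn's lemma to obtain a term `t` of `Under S.g s` that is maximal.
  obtain ⟨t, ht⟩ := exists_maximal_of_chains_bounded
    (structured_arrows_elements_sheaf_chains_bounded S.g s)
    (fun ⟨f⟩ ⟨g⟩ ↦ ⟨g ≫ f⟩)
  have tle : t.right.1.unop ≤ U := leOfHom t.hom.1.unop
  have tcomp : s |_ t.right.1.unop = S.g.hom.app t.right.1 t.right.2 :=
      CategoryOfElements.map_snd t.hom
  -- We get a section `t.right.2` of `S.g` defined on an open subset `t.right.1.unop` of `U`,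
  -- that is sent to the restriction of `s` by `S.g`.
  have : U ≤ t.right.1.unop := by
  -- Prove that the set of definition of `t.right.2` contains `U`.
    intro x hx
    haveI := wEqualsLocallyBijective (X := X)
    have : CategoryTheory.Sheaf.IsLocallySurjective S.g :=
      (CategoryTheory.Sheaf.isLocallySurjective_iff_epi' AddCommGrpCat.{u + 1} S.g).2 hS.epi_g
    -- We use local surjectivity to find a section `t₁` of `S.X₂` on a neighborhood `W` of `x`
    -- that maps to `s |_ W` by `S.g`.
    obtain ⟨W, Wle', ⟨t₁, ht₁'⟩, hW⟩ :=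
      CategoryTheory.Presheaf.imageSieve_mem (Opens.grothendieckTopology X) S.g.hom (U := op U) s x hx
    have Wle : W ≤ U := leOfHom Wle'
    have ht₁ : S.g.hom.app (op W) t₁ = s |_ W := ht₁'
    --`t.right.2` and `t₁` need not agree on their overlap so we need to deal with their
    -- difference `t₂`
    let t₂ := t.right.2 |_ (t.right.1.unop ⊓ W) - t₁ |_ (t.right.1.unop ⊓ W)
    have : (S.g.hom.app (op (t.right.1.unop ⊓ W))) t₂ = 0 := by
      simp [map_restrict, ← tcomp, restrict_restrict, ht₁, t₂]
    -- Since `S` is exact and `t₂` maps to zero, we can lift it to a section `t₃` of `S.X₁`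
    obtain ⟨t₃, ht₃⟩ : ∃ t₃ : S.X₁.obj.obj (op (t.right.1.unop ⊓ W)),
        S.f.hom.app (op (t.right.1.unop ⊓ W)) t₃ = t₂ := (ShortComplex.ab_exact_iff _).1
      (hS.exact.map_of_mono_of_preservesKernel
        (sheafToPresheaf (Opens.grothendieckTopology X) AddCommGrpCat.{u + 1} ⋙
          (evaluation _ AddCommGrpCat.{u + 1}).obj (op (t.right.1.unop ⊓ W))) hS.mono_f inferInstance)
      t₂ this
    -- Using that `S.X₁` is flasque, we can lift `t₃` to a section on `W`.
    obtain ⟨t₄, (ht₄ : t₄ |_ (t.right.1.unop ⊓ W) = t₃)⟩ := (AddCommGrpCat.epi_iff_surjective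
      (S.X₁.obj.map (homOfLE inf_le_right).op)).mp ((AddCommGrpCat.epi_iff_surjective _).2 (hF _)) t₃
    let f : Fin 2 → Opens X := ![t.right.1.unop, W]
    let sf : (i : Fin 2) → S.X₂.obj.obj (op (f i))
    | 0 => t.right.2
    | 1 => t₁ + (S.f.hom.app (op W)) t₄
    have : sf 0 |_ (t.right.1.unop ⊓ W) = sf 1 |_ (t.right.1.unop ⊓ W) := by
      dsimp [sf, f]
      simp only [restrict_sum, ← map_restrict, ht₄, ht₃, t₂, add_sub_cancel]
    -- We glue `t.right.2` and `t₁ + (S.f.hom.app (op W)) t₄` together to form `t₅`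
    obtain ⟨t₅, ht₅, _⟩ : ∃! t₅, IsGluing S.X₂.obj f sf t₅ := by
      apply Sheaf.existsUnique_gluing
      simp only [IsCompatible, Fin.forall_fin_two]
      refine ⟨⟨rfl, this⟩, Eq.symm ?_, rfl⟩
      apply_fun (fun s ↦ restrictOpen s (W ⊓ t.right.1.unop) (le_of_eq (inf_comm _ _))) at this
      rw [restrict_restrict, restrict_restrict] at this
      exact this
    have le : iSup f ≤ U := iSup_le_iff.mpr (Fin.forall_fin_two.mpr ⟨tle, Wle⟩)
    -- We upgrade `t₅` to an object in `Under S.g s` that is defined on `t.right.1.unop ⊔ W`.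
    let t₆ : Under S.g s :=
      StructuredArrow.mk (S := ⟨op U, s⟩)
        (T := (Functor.whiskerRight S.g.hom (CategoryTheory.forget AddCommGrpCat.{u + 1})).mapElements)
        (Y := ⟨op (iSup f), t₅⟩) <| CategoryOfElements.homMk _ _ (homOfLE le).op (by
          refine (TopCat.Sheaf.eq_app_of_locally_eq ht₅ (by rw [Fin.forall_fin_two]; exact ⟨tle, Wle⟩) ?_).symm
          rw [Fin.forall_fin_two]
          refine ⟨tcomp.symm, ?_⟩
          simp only [Fin.isValue, map_add, homOfLE_leOfHom, sf, f]
          have : (S.f.hom.app (op W) ≫ S.g.hom.app (op W)) = 0 := by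
            rw [← NatTrans.comp_app, ← ObjectProperty.FullSubcategory.comp_hom, S.zero]
            rfl
          simp [← CategoryTheory.comp_apply, this, ht₁]
          rfl)
    -- We prove that `t₆` is bigger than `t` for the preorder used on `Under S.g s`.
    have : Nonempty (t₆ ⟶ t) := Nonempty.intro (StructuredArrow.homMk (CategoryOfElements.homMk _ _
      (homOfLE (le_iSup f 0)).op (ht₅ 0)) (by cat_disch))
    exact leOfHom ((ht t₆) this).some.right.1.unop ((le_iSup f 1) hW)
  exact ⟨t.right.2 |_ U, by simp [map_restrict, ← tcomp, restrict_restrict]⟩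

end Groth.Agent.EtZarUlift.Flasque
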